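import Mathlib
import Cfsg.Agent.Lib.Helper74.O720.Defs
import Cfsg.Agent.Lib.Helper20.O720.P9
import Cfsg.Agent.Lib.Helper2.O720.K0
import Cfsg.Agent.Lib.Helper22.O720.T0
import Cfsg.Agent.Lib.Helper63.O720.T0d

set_option autoImplicit false

namespace Cfsg.Agent.Lib.Helper74.O720

variable {G : Type*} [Group G] [Finite G] [IsSimpleGroup G]

/-- [H10] -/
theorem H10 (h : Nat.card G = 720) (P : Sylow 3 G) (hM : Nat.card (Nz (P : Subgroup G)) = 72) (X : Subgroup G)
    (hX : Nat.card X = 3) (hXn : Nz (P : Subgroup G) ≤ Nz X) (g : G) (hg : g ∉ Nz (P : Subgroup G))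
    (hXg : X ≤ cj g (P : Subgroup G)) : False := by
  have hX1 : X ≠ ⊥ := by
    intro e
    rw [e, Subgroup.card_bot] at hX
    omega
  have hX2 : X ≠ ⊤ := by
    intro e
    rw [e, Subgroup.card_top, h] at hX
    omega
  have hne := Nz_ne_top X hX1 hX2
  have heq : Nz X = Nz (P : Subgroup G) :=
    (max72 h (Nz (P : Subgroup G)) (Nz X) hM hXn).resolve_right hne
  have hc := comm_P h (g • P)
  have h1 : cj g (P : Subgroup G) ≤ Cz X := by
    intro y hy
    rw [Subgroup.mem_centralizer_iff]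
    intro x hx
    exact hc x (hXg hx) y hy
  have h2 : ((g • P : Sylow 3 G) : Subgroup G) ≤ Nz (P : Subgroup G) := by
    rw [coe_smul_sylow, ← heq]
    exact h1.trans (Subgroup.centralizer_le_normalizer _)
  have e1 : g • P = P := eq_of_le_Nz P (g • P) h2
  apply hg
  apply mem_Nz_of_cj_eq
  rw [← coe_smul_sylow, e1]

end Cfsg.Agent.Lib.Helper74.O720
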